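import Cfsg.Agent.Lib.RelGlauberman.Basic
import Cfsg.Agent.Lib.Chars82.StableExtension
import Cfsg.Agent.S0867

/-!
# The relative Glauberman correspondence over an invariant character of a normal Sylow subgroup
-/

namespace Cfsg.Agent.Lib.RelGlauberman

open scoped ComplexConjugate
open Cfsg.Agent.Lib.Induced.Basic Cfsg.Agent.Lib.Characters.Basic
open Cfsg.Agent.Lib.Clifford.Basic
open Cfsg.Agent.Lib.Glauberman (Inv IsFix mult coe_mult restrict_eq_sum)

universe u v w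

section Natural

variable {X : Type u} [Group X] [Fintype X] {S : Type w} [Group S]

/-- Induction commutes with the action. -/
theorem indFun_act (act : S →* MulAut X) (T : Subgroup X) (hT : ∀ s, ∀ x ∈ T, act s x ∈ T)
    (ψ : T → ℂ) (s : S) (g : X) :
    Cfsg.indFun T ψ (act s g) = Cfsg.indFun T (fun t => ψ (restrictAct act T hT s t)) g := by
  classical
  rw [indFun_apply, indFun_apply]
  congr 1
  refine (Fintype.sum_equiv (act s).toEquiv _ _ fun x => ?_).symm
  show _ = dite ((act s x)⁻¹ * act s g * act s x ∈ T) _ _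
  have e : (act s x)⁻¹ * act s g * act s x = act s (x⁻¹ * g * x) := by simp
  by_cases hx : x⁻¹ * g * x ∈ T
  · rw [dif_pos hx, dif_pos (by rw [e]; exact hT s _ hx)]
    exact congrArg ψ (Subtype.ext (by rw [coe_restrictAct]; exact e.symm))
  · rw [dif_neg hx, dif_neg]
    rw [e]
    intro h
    apply hx
    simpa using hT s⁻¹ _ h

end Natural

/-- The determinantal order does not grow under composition with a surjection. -/
theorem detOrder_comp_dvd {A : Type u} {B : Type u} [Group A] [Finite A] [Group B] [Finite B]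
    (f : A →* B) (hf : Function.Surjective f) {χ : B → ℂ} (hχ : Cfsg.IsIrrCharacter B χ) :
    Cfsg.detOrder (χ ∘ f) ∣ Cfsg.detOrder χ := by
  obtain ⟨j, τ, hτ, hτχ⟩ := isIrrCharacter_comp f hf hχ
  obtain ⟨k, σ, hσ, rfl⟩ := hχ
  rw [← hτχ, Cfsg.detOrder, Cfsg.detOrder, Cfsg.Agent.Lib.Clifford.Rep.detChar_eq τ,
    Cfsg.Agent.Lib.Clifford.Rep.detChar_eq σ]
  show orderOf (Cfsg.Agent.Lib.Clifford.Linear.toFunHom
      (Cfsg.Agent.Lib.Clifford.Rep.detHom τ)) ∣
    orderOf (Cfsg.Agent.Lib.Clifford.Linear.toFunHom (Cfsg.Agent.Lib.Clifford.Rep.detHom σ))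
  rw [Cfsg.Agent.Lib.Clifford.Linear.orderOf_toFunHom,
    Cfsg.Agent.Lib.Clifford.Linear.orderOf_toFunHom, orderOf_dvd_iff_pow_eq_one]
  refine MonoidHom.ext fun a => Units.ext ?_
  have h2 := congrArg Units.val
    (DFunLike.congr_fun (pow_orderOf_eq_one (Cfsg.Agent.Lib.Clifford.Rep.detHom σ)) (f a))
  have h3 : LinearMap.det (τ a) = LinearMap.det (σ (f a)) :=
    (Cfsg.Agent.Lib.Clifford.Rep.det_eq_of_char τ (σ.comp f)
      (by rw [hτχ]; rfl) a).symm
  push_cast at h2 ⊢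
  simp only [MonoidHom.pow_apply, Units.val_pow_eq_pow_val, MonoidHom.one_apply, Units.val_one]
    at h2 ⊢
  show LinearMap.det (τ a) ^ _ = 1
  rw [h3]
  exact h2

/-- The determinantal order of a character divides the order of the group. -/
theorem detOrder_dvd_card {A : Type u} [Group A] [Finite A] {χ : A → ℂ}
    (hχ : Cfsg.IsIrrCharacter A χ) : Cfsg.detOrder χ ∣ Nat.card A := by
  obtain ⟨μ, hμ⟩ := Cfsg.Agent.Lib.Clifford.Extension.exists_detHom hχ
  rw [Cfsg.detOrder, ← hμ, Cfsg.Agent.Lib.Clifford.Linear.orderOf_toFunHom,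
    orderOf_dvd_iff_pow_eq_one]
  refine MonoidHom.ext fun a => ?_
  rw [MonoidHom.pow_apply, ← map_pow, pow_card_eq_one', map_one, MonoidHom.one_apply]

/-- The inner product does not depend on the presentation of the normal subgroup. -/
theorem classInner_transport {A : Type u} {B : Type v} [Group A] [Group B] [Fintype A] [Fintype B]
    (e : A ≃* B) (φ : A → ℂ) (θ : B → ℂ) :
    Cfsg.classInner φ (θ ∘ e) = Cfsg.classInner (φ ∘ e.symm) θ := by
  rw [← classInner_comp_surjective (π := e.toMonoidHom) e.surjective (φ ∘ e.symm) θ]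
  congr 1
  funext a
  simp

variable {K : Type u} [Group K] [Fintype K] {S : Type w} [Group S] [Finite S] {p : ℕ}
  [Fact p.Prime] {act : S →* MulAut K}

/-- The hypotheses: `Q` is the invariant normal Sylow `p`-subgroup, `C/Q` the fixed points. -/
structure Setting (act : S →* MulAut K) (p : ℕ) (Q C : Subgroup K) : Prop where
  isPGroup : IsPGroup p S
  normal : Q.Normal
  stable : ∀ s, ∀ x ∈ Q, act s x ∈ Q
  index : ¬ p ∣ Q.index
  card : ∃ a, Nat.card Q = p ^ a
  fixed : ∀ x, x ∈ C ↔ ∀ s, act s x * x⁻¹ ∈ Q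

variable {Q C : Subgroup K}

omit [Fintype K] [Finite S] [Fact p.Prime] in
theorem Setting.le (h : Setting act p Q C) : Q ≤ C := fun q hq =>
  (h.fixed q).2 fun s => Q.mul_mem (h.stable s q hq) (Q.inv_mem hq)

omit [Fintype K] [Finite S] [Fact p.Prime] in
theorem Setting.stableC (h : Setting act p Q C) : ∀ s, ∀ x ∈ C, act s x ∈ C := fun s x hx => by
  rw [← inv_mul_cancel_right (act s x) x]
  exact C.mul_mem (h.le ((h.fixed x).1 hx s)) hx

/-- `β` on the quotient of the inertia group and `γ` on its fixed points give the two sides of the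
correspondence; this records the properties used. -/
theorem main_theta (h : Setting act p Q C) [Fintype Q] [Fintype C] (θ : Cfsg.IrrCharacter Q)
    (hθ : InvOn act Q (θ : Q → ℂ)) :
    (∀ χ : Cfsg.IrrCharacter K, Inv act (χ : K → ℂ) →
      Cfsg.classInner (fun n : Q => (χ : K → ℂ) n) θ ≠ 0 →
      ∃ ξ : Cfsg.IrrCharacter C,
        Cfsg.classInner ((ξ : C → ℂ) ∘ Subgroup.inclusion h.le) θ ≠ 0 ∧
        InvOn act C (ξ : C → ℂ) ∧
        ((mult C.subtype χ ξ : ZMod p) = 1 ∨ (mult C.subtype χ ξ : ZMod p) = -1) ∧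
        (∀ ξ' : Cfsg.IrrCharacter C,
          Cfsg.classInner ((ξ' : C → ℂ) ∘ Subgroup.inclusion h.le) θ ≠ 0 →
          ¬ p ∣ mult C.subtype χ ξ' → ξ' = ξ) ∧
        ∀ d e : ℕ, (χ : K → ℂ) 1 = d → (ξ : C → ℂ) 1 = e →
          (e : ZMod p) = d ∨ (e : ZMod p) = -(d : ZMod p)) ∧
    (∀ ξ : Cfsg.IrrCharacter C, Cfsg.classInner ((ξ : C → ℂ) ∘ Subgroup.inclusion h.le) θ ≠ 0 →
      ∃ χ : Cfsg.IrrCharacter K, Inv act (χ : K → ℂ) ∧ ¬ p ∣ mult C.subtype χ ξ) ∧
    (∀ χ χ' : Cfsg.IrrCharacter K, ∀ ξ : Cfsg.IrrCharacter C, Inv act (χ : K → ℂ) →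
      Inv act (χ' : K → ℂ) → Cfsg.classInner (fun n : Q => (χ : K → ℂ) n) θ ≠ 0 →
      Cfsg.classInner (fun n : Q => (χ' : K → ℂ) n) θ ≠ 0 →
      Cfsg.classInner ((ξ : C → ℂ) ∘ Subgroup.inclusion h.le) θ ≠ 0 →
      ¬ p ∣ mult C.subtype χ ξ → ¬ p ∣ mult C.subtype χ' ξ → χ = χ') := by
  classical
  haveI := h.normal
  have hp : p.Prime := Fact.out
  -- the inertia groups in `K` and in `C`
  set T : Subgroup K := inertia Q (θ : Q → ℂ) with hTdef
  letI := Fintype.ofFinite T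
  have hQT : Q ≤ T := le_inertia Q (isClassFunction_irr θ)
  have hTa : ∀ s, ∀ x ∈ T, act s x ∈ T := fun s x hx => act_mem_inertia Q hθ h.stable s hx
  set D : Subgroup C := T.subgroupOf C with hDdef
  letI := Fintype.ofFinite D
  let QC : Subgroup C := Q.subgroupOf C
  letI := Fintype.ofFinite QC
  haveI hQCn : QC.Normal := h.normal.subgroupOf C
  let eC : QC ≃* Q := Subgroup.subgroupOfEquivOfLe h.le
  let θC : Cfsg.IrrCharacter QC :=
    ⟨(θ : Q → ℂ) ∘ eC, isIrrCharacter_comp eC.toMonoidHom eC.surjective θ.2⟩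
  have hQD : QC ≤ D := fun x hx => hQT hx
  have hDinertia : D = inertia QC (θC : QC → ℂ) := by
    ext c
    rw [mem_inertia, hDdef, Subgroup.mem_subgroupOf, hTdef, mem_inertia]
    constructor
    · intro hc
      funext x
      exact congrFun hc (eC x)
    · intro hc
      funext q
      exact congrFun hc (eC.symm q)
  -- the quotient of the inertia group and the image of the fixed points
  let QT : Subgroup T := Q.subgroupOf T
  letI := Fintype.ofFinite QT
  haveI hQTn : QT.Normal := h.normal.subgroupOf T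
  let eT : QT ≃* Q := Subgroup.subgroupOfEquivOfLe hQT
  let θT : Cfsg.IrrCharacter QT :=
    ⟨(θ : Q → ℂ) ∘ eT, isIrrCharacter_comp eT.toMonoidHom eT.surjective θ.2⟩
  let actT := restrictAct act T hTa
  have hQTa : ∀ s, ∀ x ∈ QT, actT s x ∈ QT := fun s x hx => h.stable s _ hx
  let φ : D →* T :=
    { toFun := fun d => ⟨((d : C) : K), d.2⟩
      map_one' := rfl
      map_mul' := fun _ _ => rfl }
  let mk : T →* T ⧸ QT := QuotientGroup.mk' QT
  let Db : Subgroup (T ⧸ QT) := (mk.comp φ).range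
  letI := Fintype.ofFinite Db
  letI := Fintype.ofFinite (T ⧸ QT)
  let π : D →* Db := (mk.comp φ).rangeRestrict
  have hπ : Function.Surjective π := (mk.comp φ).rangeRestrict_surjective
  let QD : Subgroup D := π.ker
  letI := Fintype.ofFinite QD
  have hmemQD : ∀ d : D, d ∈ QD ↔ ((d : C) : K) ∈ Q := fun d => by
    rw [MonoidHom.mem_ker, Subtype.ext_iff]
    exact (QuotientGroup.eq_one_iff (φ d)).trans Iff.rfl
  let jD : Q →* D :=
    { toFun := fun q => ⟨Subgroup.inclusion h.le q, hQT q.2⟩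
      map_one' := rfl
      map_mul' := fun _ _ => rfl }
  let eD : QD ≃* Q :=
    { toFun := fun d => ⟨((d : D) : C), (hmemQD d).1 d.2⟩
      invFun := fun q => ⟨jD q, (hmemQD _).2 q.2⟩
      left_inv := fun d => rfl
      right_inv := fun q => rfl
      map_mul' := fun _ _ => rfl }
  let θD : Cfsg.IrrCharacter QD :=
    ⟨(θ : Q → ℂ) ∘ eD, isIrrCharacter_comp eD.toMonoidHom eD.surjective θ.2⟩
  let actQ := quotAct actT QT hQTa
  have hfix : IsFix actQ Db.subtype := by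
    refine ⟨Db.subtype_injective, fun g => ⟨?_, fun hg => ?_⟩⟩
    · rintro ⟨⟨_, d, rfl⟩, rfl⟩ s
      show quotAct actT QT hQTa s ((φ d : T) : T ⧸ QT) = ((φ d : T) : T ⧸ QT)
      rw [quotAct_mk, QuotientGroup.eq]
      have h1 := h.normal.conj_mem _ (Q.inv_mem ((h.fixed _).1 (d : C).2 s)) ((d : C) : K)⁻¹
      show (act s ((d : C) : K))⁻¹ * ((d : C) : K) ∈ Q
      simpa [mul_assoc] using h1
    · induction g using QuotientGroup.induction_on with
      | _ t =>
        have htC : (t : K) ∈ C := (h.fixed _).2 fun s => by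
          have h1 := hg s
          rw [quotAct_mk, QuotientGroup.eq] at h1
          have h2 := h.normal.conj_mem _ (Q.inv_mem
            (show (act s (t : K))⁻¹ * (t : K) ∈ Q from h1)) (t : K)
          simpa [mul_assoc] using h2
        exact ⟨⟨_, ⟨⟨(t : K), htC⟩, t.2⟩, rfl⟩, rfl⟩
  have hcop : ¬ p ∣ Nat.card (T ⧸ QT) := fun hd => h.index (by
    rw [← Subgroup.index_eq_card] at hd
    exact hd.trans (Subgroup.relIndex_dvd_index_of_normal Q T))
  -- the canonical extension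
  obtain ⟨a, ha⟩ := h.card
  obtain ⟨d₀, -, hd₀⟩ := exists_degree_pos θT
  have hcardT : Nat.card QT = p ^ a := (Nat.card_congr eT.toEquiv).trans ha
  have hcopT : Nat.Coprime QT.index (Cfsg.detOrder (θT : QT → ℂ) * d₀) := by
    have hco : QT.index.Coprime (p ^ a) := by
      refine Nat.Coprime.pow_right _ (Nat.Coprime.symm (hp.coprime_iff_not_dvd.2 fun hd => ?_))
      rw [Subgroup.index_eq_card] at hd
      exact hcop hd
    refine Nat.Coprime.mul_right (hco.coprime_dvd_right ?_) (hco.coprime_dvd_right ?_)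
    · rw [← hcardT]; exact detOrder_dvd_card θT.2
    · rw [← hcardT]
      obtain ⟨d', -, hd', hd''⟩ := Cfsg.Agent.Lib.Characters.Degree.exists_degree_dvd θT
      rw [hd₀, Nat.cast_inj] at hd''
      exact hd'' ▸ hd'
  have hTinv : ∀ (g : T) (n : QT), (θT : QT → ℂ) ⟨g * n * g⁻¹, hQTn.conj_mem (n : T) n.2 g⟩ =
      (θT : QT → ℂ) n := fun g n => congrFun g.2 (eT n)
  obtain ⟨E₀, ⟨hE, hEN, hEdet⟩, hEuniq⟩ :=
    Cfsg.Agent.S0867.result QT (θT : QT → ℂ) θT.2 hTinv d₀ hd₀ hcopT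
  let E : Cfsg.IrrCharacter T := ⟨E₀, hE⟩
  have hEres : ∀ n : QT, (E : T → ℂ) n = (θT : QT → ℂ) n := hEN
  have hEinv : ∀ s t, (E : T → ℂ) (actT s t) = (E : T → ℂ) t := by
    intro s t
    refine congrFun (hEuniq ((E : T → ℂ) ∘ (actT s).toMonoidHom)
      (isIrrCharacter_comp _ (actT s).surjective E.2) (fun n => ?_) ?_) t
    · show (E : T → ℂ) (actT s n) = _
      rw [← show ((⟨actT s n, hQTa s _ n.2⟩ : QT) : T) = actT s n from rfl, hEres]
      exact hθ s _ _ rfl
    · exact (hcopT.coprime_dvd_right (dvd_mul_right _ _)).coprime_dvd_right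
        (hEdet ▸ detOrder_comp_dvd _ (actT s).surjective E.2)
  let F : Cfsg.IrrCharacter D := ⟨(E : T → ℂ) ∘ φ,
    Cfsg.Agent.Lib.Chars82.StableExtension.isIrr_of_restrict_irr QD.subtype
      (isCharacter_comp φ (isCharacter_irr E)) θD fun n => hEres ⟨φ n, (hmemQD n).1 n.2⟩⟩
  have hFres : ∀ n : QD, (F : D → ℂ) n = (θD : QD → ℂ) n :=
    fun n => hEres ⟨φ n, (hmemQD n).1 n.2⟩
  obtain ⟨gTirr, gTinj, gTsurj⟩ := gallagher_quot (π := mk) QT
    (QuotientGroup.mk'_surjective QT) (QuotientGroup.ker_mk' QT) hEres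
  obtain ⟨gDirr, gDinj, gDsurj⟩ := gallagher_quot (π := π) QD hπ rfl hFres
  let ψ : Cfsg.IrrCharacter (T ⧸ QT) → Cfsg.IrrCharacter T := fun β => ⟨_, gTirr β⟩
  let η : Cfsg.IrrCharacter Db → Cfsg.IrrCharacter D := fun γ => ⟨_, gDirr γ⟩
  -- lying over `θ`
  have hoverT : ∀ f : T → ℂ, Cfsg.classInner (fun n : QT => f n) θT =
      Cfsg.classInner (f ∘ Subgroup.inclusion hQT) θ := fun f =>
    classInner_transport eT (fun n : QT => f n) θ
  have hoverD : ∀ f : D → ℂ, Cfsg.classInner (fun n : QD => f n) θD =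
      Cfsg.classInner (f ∘ jD) θ := fun f => classInner_transport eD (fun n : QD => f n) θ
  have hoverD' : ∀ f : D → ℂ, Cfsg.classInner (f ∘ Subgroup.inclusion hQD) θC =
      Cfsg.classInner (f ∘ jD) θ := fun f => classInner_transport eC (f ∘ Subgroup.inclusion hQD) θ
  have hoverC : ∀ f : C → ℂ, Cfsg.classInner (fun n : QC => f n) θC =
      Cfsg.classInner (f ∘ Subgroup.inclusion h.le) θ := fun f =>
    classInner_transport eC (fun n : QC => f n) θ
  have hψover : ∀ β, Cfsg.classInner ((ψ β : T → ℂ) ∘ Subgroup.inclusion hQT) θ ≠ 0 := by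
    intro β
    rw [← hoverT, show (fun n : QT => (ψ β : T → ℂ) n) =
      (β : T ⧸ QT → ℂ) 1 • (θT : QT → ℂ) from
        funext fun n => twist_restrict QT (QuotientGroup.ker_mk' QT) hEres β n,
      classInner_smul_left, classInner_self_irr, mul_one]
    exact apply_one_ne_zero β
  have hηover : ∀ γ, Cfsg.classInner ((η γ : D → ℂ) ∘ jD) θ ≠ 0 := by
    intro γ
    rw [← hoverD, show (fun n : QD => (η γ : D → ℂ) n) =
      (γ : Db → ℂ) 1 • (θD : QD → ℂ) from funext fun n => twist_restrict QD rfl hFres γ n,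
      classInner_smul_left, classInner_self_irr, mul_one]
    exact apply_one_ne_zero γ
  choose χf hχf hχfover rK hrK hdecK hrK0 using fun β =>
    correspondence Q θ T hQT rfl (ψ β) (hψover β)
  choose ξf hξf hξfover rC hrC hdecC hrC0 using fun γ =>
    correspondence QC θC D hQD hDinertia (η γ) (by rw [hoverD']; exact hηover γ)
  -- parametrisations
  have hparK : ∀ χ : Cfsg.IrrCharacter K, Cfsg.classInner (fun n : Q => (χ : K → ℂ) n) θ ≠ 0 →
      ∃ β, χ = χf β := by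
    intro χ hχ
    obtain ⟨ψ₁, hψ₁, hind⟩ := exists_over Q θ T hQT rfl hχ
    obtain ⟨β, hβ⟩ := gTsurj ψ₁ (by rw [hoverT]; exact hψ₁)
    refine ⟨β, Subtype.ext ?_⟩
    rw [← hind, ← hχf, hβ]
  have hparC : ∀ ξ : Cfsg.IrrCharacter C,
      Cfsg.classInner ((ξ : C → ℂ) ∘ Subgroup.inclusion h.le) θ ≠ 0 → ∃ γ, ξ = ξf γ := by
    intro ξ hξ
    obtain ⟨η₁, hη₁, hind⟩ := exists_over QC θC D hQD hDinertia (χ := ξ) (by rw [hoverC]; exact hξ)
    obtain ⟨γ, hγ⟩ := gDsurj η₁ (by rw [hoverD, ← hoverD']; exact hη₁)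
    refine ⟨γ, Subtype.ext ?_⟩
    rw [← hind, ← hξf, hγ]
  have hξfover' : ∀ γ,
      Cfsg.classInner ((ξf γ : C → ℂ) ∘ Subgroup.inclusion h.le) θ ≠ 0 := fun γ => by
    rw [← hoverC]; exact hξfover γ
  -- invariance
  have hψinv : ∀ β s, (fun t => (ψ β : T → ℂ) (actT s t)) =
      twist mk (E : T → ℂ) (fun q => (β : T ⧸ QT → ℂ) (actQ s q)) := by
    intro β s
    funext t
    show (β : T ⧸ QT → ℂ) ((actT s t : T) : T ⧸ QT) * (E : T → ℂ) (actT s t) = _
    rw [hEinv]
    rfl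
  have hχinv : ∀ β, Inv act (χf β : K → ℂ) ↔ Inv actQ (β : T ⧸ QT → ℂ) := by
    intro β
    constructor
    · intro hinv s q
      let β' : Cfsg.IrrCharacter (T ⧸ QT) :=
        ⟨fun q => (β : T ⧸ QT → ℂ) (actQ s q),
          isIrrCharacter_comp (actQ s).toMonoidHom (actQ s).surjective β.2⟩
      have h1 : Cfsg.indFun T (ψ β' : T → ℂ) = Cfsg.indFun T (ψ β : T → ℂ) := by
        rw [show (ψ β' : T → ℂ) = fun t => (ψ β : T → ℂ) (actT s t) from (hψinv β s).symm]
        funext g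
        rw [← indFun_act act T hTa (ψ β : T → ℂ) s g, hχf, hinv s g]
      have h2 := indFun_injective Q θ T hQT rfl (hψover β') (hψover β) h1
      have h3 := gTinj β' β (congrArg Subtype.val h2)
      exact congrFun (congrArg Subtype.val h3) q
    · intro hinv s g
      rw [← hχf, indFun_act act T hTa (ψ β : T → ℂ) s g]
      change Cfsg.indFun T (fun t => (ψ β : T → ℂ) (actT s t)) g = _
      rw [hψinv, show (fun q => (β : T ⧸ QT → ℂ) (actQ s q)) = (β : T ⧸ QT → ℂ) from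
        funext (hinv s)]
  have hξinv : ∀ γ, InvOn act C (ξf γ : C → ℂ) := by
    intro γ
    rw [invOn_iff h.stableC]
    intro s c
    let actC := restrictAct act C h.stableC
    have hDa : ∀ s, ∀ x ∈ D, actC s x ∈ D := fun s x hx => hTa s _ hx
    rw [← hξf, indFun_act actC D hDa (η γ : D → ℂ) s c]
    congr 1
    funext d
    have hπd : π (restrictAct actC D hDa s d) = π d := by
      apply Subtype.ext
      show ((φ (restrictAct actC D hDa s d) : T) : T ⧸ QT) = ((φ d : T) : T ⧸ QT)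
      exact hfix.2 ((φ d : T) : T ⧸ QT) |>.1 ⟨π d, rfl⟩ s
    show (γ : Db → ℂ) (π (restrictAct actC D hDa s d)) *
      (E : T → ℂ) (φ (restrictAct actC D hDa s d)) = (γ : Db → ℂ) (π d) * (E : T → ℂ) (φ d)
    rw [hπd, show φ (restrictAct actC D hDa s d) = actT s (φ d) from Subtype.ext rfl, hEinv]
  -- multiplicities
  have hmult : ∀ β γ, mult C.subtype (χf β) (ξf γ) = mult Db.subtype β γ := by
    intro β γ
    rw [← Cfsg.Agent.Lib.Glauberman.mult_eq_iff]
    show Cfsg.classInner ((χf β : K → ℂ) ∘ C.subtype) (ξf γ : C → ℂ) = _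
    rw [← hξf, ← classInner_conj_symm, frobenius_reciprocity D _
      (isClassFunction_of_isCharacter (isCharacter_comp C.subtype (isCharacter_irr (χf β))))]
    have hres : (fun d : D => ((χf β : K → ℂ) ∘ C.subtype) d) =
        (ψ β : T → ℂ) ∘ φ + rK β ∘ φ := funext fun d => congrFun (hdecK β) (φ d)
    show conj (Cfsg.classInner (η γ : D → ℂ) (fun d : D => ((χf β : K → ℂ) ∘ C.subtype) d)) = _
    rw [hres, ← classInner_conj_symm, classInner_add_left]
    have hzero : Cfsg.classInner (rK β ∘ φ) (η γ : D → ℂ) = 0 := by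
      by_contra hne
      exact classInner_comp_ne_zero jD (isCharacter_comp φ (hrK β)) hne (hηover γ) (hrK0 β)
    rw [hzero, add_zero]
    letI := Fintype.ofFinite (Cfsg.IrrCharacter Db)
    have hψφ : (ψ β : T → ℂ) ∘ φ = ∑ δ, (mult Db.subtype β δ : ℂ) • (η δ : D → ℂ) := by
      funext d
      rw [Finset.sum_apply]
      show (β : T ⧸ QT → ℂ) (Db.subtype (π d)) * (E : T → ℂ) (φ d) = _
      rw [restrict_eq_sum, Finset.sum_mul]
      exact Finset.sum_congr rfl fun δ _ => mul_assoc _ _ _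
    rw [hψφ, classInner_sum_left, Finset.sum_eq_single γ]
    · rw [classInner_smul_left, classInner_self_irr, mul_one, Complex.conj_natCast]; simp
    · intro δ _ hδ
      have hne : η δ ≠ η γ := fun e => hδ (gDinj δ γ (congrArg Subtype.val e))
      rw [classInner_smul_left, classInner_irr_of_ne hne, mul_zero]
    · simp
  -- degrees
  have hidx : (T.index : ZMod p) = (D.index : ZMod p) :=
    (ZMod.natCast_eq_natCast_iff _ _ p).2
      (index_modEq Q h.isPGroup h.index h.stable hQT hTa C h.fixed)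
  obtain ⟨t₀, -, ht₀⟩ := exists_degree_pos θ
  have hdegK : ∀ (β : Cfsg.IrrCharacter (T ⧸ QT)) (b : ℕ), (β : T ⧸ QT → ℂ) 1 = (b : ℕ) →
      (χf β : K → ℂ) 1 = ((T.index * b * t₀ : ℕ) : ℂ) := by
    intro β b hb
    rw [← hχf, indFun_one]
    have h1 : (ψ β : T → ℂ) ((1 : QT) : T) = (β : T ⧸ QT → ℂ) 1 * (θT : QT → ℂ) 1 :=
      twist_restrict QT (QuotientGroup.ker_mk' QT) hEres β 1
    have h2 : (θT : QT → ℂ) 1 = t₀ := by
      show (θ : Q → ℂ) (eT 1) = _
      rw [map_one, ht₀]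
    rw [OneMemClass.coe_one, h2, hb] at h1
    rw [h1]
    push_cast
    ring
  have hdegC : ∀ (γ : Cfsg.IrrCharacter Db) (b : ℕ), (γ : Db → ℂ) 1 = (b : ℕ) →
      (ξf γ : C → ℂ) 1 = ((D.index * b * t₀ : ℕ) : ℂ) := by
    intro γ b hb
    rw [← hξf, indFun_one]
    have h1 : (η γ : D → ℂ) ((1 : QD) : D) = (γ : Db → ℂ) 1 * (θD : QD → ℂ) 1 :=
      twist_restrict QD rfl hFres γ 1
    have h2 : (θD : QD → ℂ) 1 = t₀ := by
      show (θ : Q → ℂ) (eD 1) = _
      rw [map_one, ht₀]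
    rw [OneMemClass.coe_one, h2, hb] at h1
    rw [h1]
    push_cast
    ring
  refine ⟨fun χ hχ hover => ?_, fun ξ hξ => ?_, fun χ χ' ξ hχ hχ' ho ho' hξ hm hm' => ?_⟩
  · obtain ⟨β, rfl⟩ := hparK χ hover
    have hβ := (hχinv β).1 hχ
    obtain ⟨γ, hγ⟩ := Cfsg.Agent.Lib.Glauberman.corr_exists h.isPGroup hcop hfix (χ := β)
    have hsq := (ZMod.natCast_eq_natCast_iff _ _ p).2
      (Cfsg.Agent.Lib.Glauberman.corr_mult_sq h.isPGroup hcop hfix hβ hγ)
    rw [Nat.cast_mul, Nat.cast_one] at hsq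
    have hpm := mul_self_eq_one_iff.1 hsq
    refine ⟨ξf γ, hξfover' γ, hξinv γ, by rw [hmult]; exact hpm, fun ξ' hξ' hd => ?_,
      fun d e hd he => ?_⟩
    · obtain ⟨γ', rfl⟩ := hparC ξ' hξ'
      rw [hmult] at hd
      rw [Cfsg.Agent.Lib.Glauberman.corr_unique h.isPGroup hcop hfix hβ hd hγ]
    · obtain ⟨b, hb⟩ := exists_degree (isCharacter_irr β)
      obtain ⟨c, hc⟩ := exists_degree (isCharacter_irr γ)
      rw [hdegK β b hb, Nat.cast_inj] at hd
      rw [hdegC γ c hc, Nat.cast_inj] at he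
      have hbc := (ZMod.natCast_eq_natCast_iff _ _ p).2
        (Cfsg.Agent.Lib.Glauberman.corr_degree h.isPGroup hcop hfix hβ hγ hb hc)
      rw [Nat.cast_mul] at hbc
      rw [← hd, ← he]
      push_cast
      rw [← hidx, ← hbc]
      rcases hpm with h1 | h1 <;> rw [h1]
      · left; ring
      · right; ring
  · obtain ⟨γ, rfl⟩ := hparC ξ hξ
    obtain ⟨β, hβ, hβm⟩ := Cfsg.Agent.Lib.Glauberman.corr_surj h.isPGroup hcop hfix γ
    exact ⟨χf β, (hχinv β).2 hβ, by rw [hmult]; exact hβm⟩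
  · obtain ⟨β, rfl⟩ := hparK χ ho
    obtain ⟨β', rfl⟩ := hparK χ' ho'
    obtain ⟨γ, rfl⟩ := hparC ξ hξ
    rw [hmult] at hm hm'
    rw [Cfsg.Agent.Lib.Glauberman.corr_inj h.isPGroup hcop hfix ((hχinv β).1 hχ)
      ((hχinv β').1 hχ') hm hm']

/-- The relative Glauberman correspondence. -/
theorem correspondence_main (h : Setting act p Q C) [Fintype C] :
    (∀ χ : Cfsg.IrrCharacter K, Inv act (χ : K → ℂ) →
      ∃ ξ : Cfsg.IrrCharacter C, InvOn act C (ξ : C → ℂ) ∧
        ((mult C.subtype χ ξ : ZMod p) = 1 ∨ (mult C.subtype χ ξ : ZMod p) = -1) ∧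
        (∀ ξ' : Cfsg.IrrCharacter C, InvOn act C (ξ' : C → ℂ) →
          ¬ p ∣ mult C.subtype χ ξ' → ξ' = ξ) ∧
        ∀ d e : ℕ, (χ : K → ℂ) 1 = d → (ξ : C → ℂ) 1 = e →
          (e : ZMod p) = d ∨ (e : ZMod p) = -(d : ZMod p)) ∧
    (∀ ξ : Cfsg.IrrCharacter C, InvOn act C (ξ : C → ℂ) →
      ∃ χ : Cfsg.IrrCharacter K, Inv act (χ : K → ℂ) ∧ ¬ p ∣ mult C.subtype χ ξ) ∧
    (∀ χ χ' : Cfsg.IrrCharacter K, ∀ ξ : Cfsg.IrrCharacter C, Inv act (χ : K → ℂ) →
      Inv act (χ' : K → ℂ) → InvOn act C (ξ : C → ℂ) →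
      ¬ p ∣ mult C.subtype χ ξ → ¬ p ∣ mult C.subtype χ' ξ → χ = χ') := by
  classical
  haveI := h.normal
  letI := Fintype.ofFinite Q
  let QC : Subgroup C := Q.subgroupOf C
  letI := Fintype.ofFinite QC
  haveI hQCn : QC.Normal := h.normal.subgroupOf C
  let eC : QC ≃* Q := Subgroup.subgroupOfEquivOfLe h.le
  -- an invariant constituent of an invariant character of `C`
  have hbelow : ∀ ξ : Cfsg.IrrCharacter C, InvOn act C (ξ : C → ℂ) →
      ∃ θ : Cfsg.IrrCharacter Q, InvOn act Q (θ : Q → ℂ) ∧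
        Cfsg.classInner ((ξ : C → ℂ) ∘ Subgroup.inclusion h.le) θ ≠ 0 := by
    intro ξ hξ
    have hidxC : ¬ p ∣ QC.index := fun hd =>
      h.index (hd.trans (Subgroup.relIndex_dvd_index_of_normal Q C))
    obtain ⟨θ, hθ, hinv⟩ := exists_inv_constituent (act := restrictAct act C h.stableC) QC
      h.isPGroup hidxC (fun s x hx => h.stable s _ hx) ((invOn_iff h.stableC _).1 hξ)
    refine ⟨⟨(θ : QC → ℂ) ∘ eC.symm,
      isIrrCharacter_comp eC.symm.toMonoidHom eC.symm.surjective θ.2⟩, ?_, ?_⟩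
    · intro s x y hy
      exact hinv s (eC.symm x) (eC.symm y) (Subtype.ext hy)
    · show Cfsg.classInner _ ((θ : QC → ℂ) ∘ eC.symm) ≠ 0
      rw [classInner_transport eC.symm]
      exact hθ
  -- multiplicity prime to `p` passes constituents up
  have hup : ∀ (χ : Cfsg.IrrCharacter K) (ξ : Cfsg.IrrCharacter C) (θ : Cfsg.IrrCharacter Q),
      ¬ p ∣ mult C.subtype χ ξ →
      Cfsg.classInner ((ξ : C → ℂ) ∘ Subgroup.inclusion h.le) θ ≠ 0 →
      Cfsg.classInner (fun n : Q => (χ : K → ℂ) n) θ ≠ 0 := by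
    intro χ ξ θ hm hθ
    refine classInner_comp_ne_zero (Subgroup.inclusion h.le)
      (isCharacter_comp C.subtype (isCharacter_irr χ)) (a := ξ) ?_ hθ
    show Cfsg.classInner (fun c : C => (χ : K → ℂ) (C.subtype c)) (ξ : C → ℂ) ≠ 0
    rw [coe_mult, Nat.cast_ne_zero]
    exact fun h0 => hm (h0 ▸ dvd_zero p)
  refine ⟨fun χ hχ => ?_, fun ξ hξ => ?_, fun χ χ' ξ hχ hχ' hξ hm hm' => ?_⟩
  · obtain ⟨θ, hθ, hθinv⟩ := exists_inv_constituent Q h.isPGroup h.index h.stable hχ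
    obtain ⟨ξ, -, hξinv, hpm, huniq, hdeg⟩ := (main_theta h θ hθinv).1 χ hχ hθ
    refine ⟨ξ, hξinv, hpm, fun ξ' hξ' hd => huniq ξ' ?_ hd, hdeg⟩
    obtain ⟨θ', hθ'inv, hθ'⟩ := hbelow ξ' hξ'
    obtain ⟨g, hg⟩ := exists_conj_of_constituents Q χ.2 hθ (hup χ ξ' θ' hd hθ')
    obtain ⟨c, hc, hcθ⟩ := exists_fixed_conj Q h.isPGroup h.index h.stable
      (isClassFunction_irr θ) hθinv hθ'inv hg
    -- both are constituents of `ξ'`, being conjugate in `C`
    have hcC : c ∈ C := (h.fixed c).2 hc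
    let θC : QC → ℂ := (θ : Q → ℂ) ∘ eC
    have h1 : Cfsg.classInner (fun n : QC => (ξ' : C → ℂ) n) (conjC QC ⟨c, hcC⟩ θC) ≠ 0 := by
      have e : conjC QC ⟨c, hcC⟩ θC = (θ' : Q → ℂ) ∘ eC := by
        funext n
        exact congrFun hcθ (eC n)
      rw [e, classInner_transport]
      exact hθ'
    rw [classInner_restrict_conjC QC (isClassFunction_irr ξ'), classInner_transport] at h1
    exact h1
  · obtain ⟨θ, hθinv, hθ⟩ := hbelow ξ hξ
    exact (main_theta h θ hθinv).2.1 ξ hθ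
  · obtain ⟨θ, hθinv, hθ⟩ := hbelow ξ hξ
    exact (main_theta h θ hθinv).2.2 χ χ' ξ hχ hχ' (hup χ ξ θ hm hθ) (hup χ' ξ θ hm' hθ) hθ hm hm'

end Cfsg.Agent.Lib.RelGlauberman
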