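import Cfsg.Agent.Lib.Clifford.Gallagher
import Cfsg.Agent.Lib.Glauberman.PGroup
import Cfsg.Agent.Lib.Characters.Kernel

/-!
# Clifford theory with a p-group of automorphisms, relative to a normal subgroup of index prime to p
-/

namespace Cfsg.Agent.Lib.RelGlauberman

open scoped ComplexConjugate
open Cfsg.Agent.Lib.Induced.Basic Cfsg.Agent.Lib.Characters.Basic
open Cfsg.Agent.Lib.Clifford.Basic
open Cfsg.Agent.Lib.Glauberman (Inv)

universe u v w

/-! ## Actions on subgroups and quotients -/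

section Action

variable {X : Type u} [Group X] {S : Type w} [Group S]

/-- The action on an invariant subgroup. -/
def restrictAct (act : S →* MulAut X) (H : Subgroup X) (hH : ∀ s, ∀ x ∈ H, act s x ∈ H) :
    S →* MulAut H where
  toFun s :=
    { toFun := fun x => ⟨act s x, hH s x x.2⟩
      invFun := fun x => ⟨act s⁻¹ x, hH s⁻¹ x x.2⟩
      left_inv := fun x => Subtype.ext (by simp)
      right_inv := fun x => Subtype.ext (by simp)
      map_mul' := fun x y => Subtype.ext (by simp) }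
  map_one' := MulEquiv.ext fun x => Subtype.ext (by simp)
  map_mul' s t := MulEquiv.ext fun x => Subtype.ext (by simp)

@[simp] theorem coe_restrictAct {act : S →* MulAut X} {H : Subgroup X}
    (hH : ∀ s, ∀ x ∈ H, act s x ∈ H) (s : S) (x : H) :
    ((restrictAct act H hH s x : H) : X) = act s x := rfl

/-- The action on the quotient by an invariant normal subgroup. -/
def quotAct (act : S →* MulAut X) (N : Subgroup X) [N.Normal]
    (hN : ∀ s, ∀ x ∈ N, act s x ∈ N) : S →* MulAut (X ⧸ N) where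
  toFun s :=
    { toFun := QuotientGroup.map N N (act s).toMonoidHom fun x hx => hN s x hx
      invFun := QuotientGroup.map N N (act s⁻¹).toMonoidHom fun x hx => hN s⁻¹ x hx
      left_inv := fun q => by
        induction q using QuotientGroup.induction_on with
        | _ x => show ((act s⁻¹ (act s x) : X) : X ⧸ N) = x; simp
      right_inv := fun q => by
        induction q using QuotientGroup.induction_on with
        | _ x => show ((act s (act s⁻¹ x) : X) : X ⧸ N) = x; simp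
      map_mul' := map_mul _ }
  map_one' := MulEquiv.ext fun q => by
    induction q using QuotientGroup.induction_on with
    | _ x => show ((act 1 x : X) : X ⧸ N) = x; simp
  map_mul' s t := MulEquiv.ext fun q => by
    induction q using QuotientGroup.induction_on with
    | _ x => show ((act (s * t) x : X) : X ⧸ N) = ((act s (act t x) : X) : X ⧸ N); simp

theorem quotAct_mk {act : S →* MulAut X} {N : Subgroup X} [N.Normal]
    (hN : ∀ s, ∀ x ∈ N, act s x ∈ N) (s : S) (x : X) :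
    quotAct act N hN s (x : X ⧸ N) = ((act s x : X) : X ⧸ N) := rfl

/-- A function on a subgroup invariant under the action. -/
def InvOn (act : S →* MulAut X) (H : Subgroup X) (θ : H → ℂ) : Prop :=
  ∀ (s : S) (x y : H), (y : X) = act s x → θ y = θ x

theorem invOn_iff {act : S →* MulAut X} {H : Subgroup X} (hH : ∀ s, ∀ x ∈ H, act s x ∈ H)
    (θ : H → ℂ) : InvOn act H θ ↔ Inv (restrictAct act H hH) θ :=
  ⟨fun h s x => h s x _ rfl, fun h s x y hy => by
    rw [show y = restrictAct act H hH s x from Subtype.ext hy]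
    exact h s x⟩

variable (N : Subgroup X) [hN : N.Normal]

theorem conjC_act {act : S →* MulAut X} {θ : N → ℂ} (hθ : InvOn act N θ)
    (hNa : ∀ s, ∀ x ∈ N, act s x ∈ N) (s : S) (x : X) (n : N) :
    conjC N (act s x) θ ⟨act s n, hNa s n n.2⟩ = conjC N x θ n := by
  rw [conjC_apply, conjC_apply]
  exact hθ s _ _ (by simp)

theorem act_mem_inertia {act : S →* MulAut X} {θ : N → ℂ} (hθ : InvOn act N θ)
    (hNa : ∀ s, ∀ x ∈ N, act s x ∈ N) (s : S) {x : X} (hx : x ∈ inertia N θ) :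
    act s x ∈ inertia N θ := by
  rw [mem_inertia] at hx ⊢
  funext n
  have h := conjC_act N hθ hNa s x ⟨act s⁻¹ n, hNa s⁻¹ n n.2⟩
  rw [hx] at h
  have e : (⟨act s (act s⁻¹ (n : X)), hNa s _ (hNa s⁻¹ n n.2)⟩ : N) = n := Subtype.ext (by simp)
  rw [e] at h
  rw [h]
  exact hθ s⁻¹ n _ rfl

end Action

/-! ## Fixed points -/

section Fixed

variable {X : Type u} [Group X] [Finite X] {S : Type w} [Group S] {p : ℕ} [Fact p.Prime]
  {act : S →* MulAut X} (N : Subgroup X) [hN : N.Normal]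

/-- An invariant coset of an invariant overgroup of `N` contains an element fixed modulo `N`. -/
theorem exists_fixed_in_coset (hS : IsPGroup p S) (hidx : ¬ p ∣ N.index)
    (hNa : ∀ s, ∀ x ∈ N, act s x ∈ N) (T : Subgroup X)
    (hTa : ∀ s, ∀ x ∈ T, act s x ∈ T) (x : X) (hx : ∀ s, act s x * x⁻¹ ∈ T) :
    ∃ t ∈ T, ∀ s, act s (t * x) * (t * x)⁻¹ ∈ N := by
  let T' : Subgroup (X ⧸ N) := T.map (QuotientGroup.mk' N)
  letI := MulAction.compHom (X ⧸ N) (quotAct act N hNa)
  have hmem : ∀ (s : S) (y : X ⧸ N), y * ((x : X ⧸ N))⁻¹ ∈ T' →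
      (s • y) * ((x : X ⧸ N))⁻¹ ∈ T' := by
    intro s y hy
    induction y using QuotientGroup.induction_on with
    | _ y =>
      obtain ⟨t, ht, hty⟩ := hy
      refine ⟨act s t * (act s x * x⁻¹), T.mul_mem (hTa s t ht) (hx s), ?_⟩
      rw [QuotientGroup.mk'_apply] at hty
      have h1 : (y : X ⧸ N) = ((t * x : X) : X ⧸ N) := by
        rw [QuotientGroup.mk_mul, hty, inv_mul_cancel_right]
      show _ = quotAct act N hNa s (y : X ⧸ N) * _
      rw [h1, quotAct_mk, QuotientGroup.mk'_apply, ← QuotientGroup.mk_inv, ← QuotientGroup.mk_mul,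
        map_mul, mul_assoc]
  let Y := {y : X ⧸ N // y * ((x : X ⧸ N))⁻¹ ∈ T'}
  letI : MulAction S Y :=
    { smul := fun s y => ⟨s • y.1, hmem s y.1 y.2⟩
      one_smul := fun y => Subtype.ext (one_smul S y.1)
      mul_smul := fun a b y => Subtype.ext (mul_smul a b y.1) }
  let e : Y ≃ T' :=
    { toFun := fun y => ⟨_, y.2⟩
      invFun := fun t => ⟨t.1 * (x : X ⧸ N), by rw [mul_inv_cancel_right]; exact t.2⟩
      left_inv := fun y => Subtype.ext (inv_mul_cancel_right _ _)
      right_inv := fun t => Subtype.ext (mul_inv_cancel_right _ _) }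
  have hY : ¬ p ∣ Nat.card Y := fun hd => hidx (by
    rw [N.index_eq_card]
    exact (Nat.card_congr e ▸ hd).trans (Subgroup.card_subgroup_dvd_card _))
  obtain ⟨⟨y, hy⟩, hfix⟩ := hS.nonempty_fixed_point_of_prime_not_dvd_card Y hY
  obtain ⟨t, ht, hty⟩ := hy
  refine ⟨t, ht, fun s => ?_⟩
  have h1 : s • y = y := congrArg Subtype.val (hfix s)
  rw [QuotientGroup.mk'_apply] at hty
  have h2 : y = ((t * x : X) : X ⧸ N) := by
    rw [QuotientGroup.mk_mul, hty, inv_mul_cancel_right]
  have h3 : quotAct act N hNa s ((t * x : X) : X ⧸ N) = ((t * x : X) : X ⧸ N) := by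
    rw [← h2]; exact h1
  rw [quotAct_mk, QuotientGroup.eq] at h3
  have := hN.conj_mem _ (N.inv_mem h3) (t * x)
  simpa [mul_assoc] using this

/-- An irreducible character invariant under the action has an invariant constituent on `N`. -/
theorem exists_inv_constituent (hS : IsPGroup p S) (hidx : ¬ p ∣ N.index)
    (hNa : ∀ s, ∀ x ∈ N, act s x ∈ N) [Fintype N] {χ : Cfsg.IrrCharacter X}
    (hχ : Inv act (χ : X → ℂ)) :
    ∃ θ : Cfsg.IrrCharacter N, Cfsg.classInner (fun n : N => (χ : X → ℂ) n) θ ≠ 0 ∧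
      InvOn act N (θ : N → ℂ) := by
  have := Fintype.ofFinite X
  let α := restrictAct act N hNa
  let Y := {θ : Cfsg.IrrCharacter N // Cfsg.classInner (fun n : N => (χ : X → ℂ) n) θ ≠ 0}
  have hmv : ∀ (s : S) (θ : Cfsg.IrrCharacter N),
      Cfsg.classInner (fun n : N => (χ : X → ℂ) n) θ ≠ 0 →
      Cfsg.classInner (fun n : N => (χ : X → ℂ) n)
        (fun n : N => (θ : N → ℂ) (α s⁻¹ n)) ≠ 0 := by
    intro s θ hθ
    convert hθ using 1
    simp only [Cfsg.classInner]
    congr 1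
    refine Fintype.sum_equiv (α s⁻¹).toEquiv _ _ fun n => ?_
    show _ = (χ : X → ℂ) (act s⁻¹ (n : X)) * conj ((θ : N → ℂ) (α s⁻¹ n))
    rw [hχ]
  letI : MulAction S Y :=
    { smul := fun s θ => ⟨⟨_, isIrrCharacter_comp (α s⁻¹).toMonoidHom (α s⁻¹).surjective θ.1.2⟩,
        hmv s θ.1 θ.2⟩
      one_smul := fun θ => Subtype.ext (Subtype.ext (funext fun n => by
        show (θ.1 : N → ℂ) (α 1⁻¹ n) = (θ.1 : N → ℂ) n
        rw [inv_one, map_one]; rfl))
      mul_smul := fun a b θ => Subtype.ext (Subtype.ext (funext fun n => by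
        show (θ.1 : N → ℂ) (α (a * b)⁻¹ n) = (θ.1 : N → ℂ) (α b⁻¹ (α a⁻¹ n))
        rw [mul_inv_rev, map_mul]; rfl)) }
  obtain ⟨θ₀, hθ₀⟩ := exists_constituent_restrict N χ.2
  set T := inertia N (θ₀ : N → ℂ)
  have hNT : N ≤ T := le_inertia N (isClassFunction_irr θ₀)
  let f : X ⧸ T → Y := fun q => ⟨⟨conjC N q.out⁻¹ θ₀, isIrrCharacter_conjC N _ θ₀.2⟩, by
    show Cfsg.classInner _ (conjC N q.out⁻¹ θ₀) ≠ 0
    rw [classInner_restrict_conjC N (isClassFunction_irr χ)]
    exact hθ₀⟩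
  have hf : Function.Bijective f := by
    constructor
    · intro q r h
      have h1 : conjC N q.out⁻¹ θ₀ = conjC N r.out⁻¹ θ₀ :=
        congrArg (fun y : Y => (y.1 : N → ℂ)) h
      rw [conjC_eq_conjC_iff, inv_inv, ← QuotientGroup.eq, QuotientGroup.out_eq', QuotientGroup.out_eq'] at h1
      exact h1
    · rintro ⟨θ, hθ⟩
      obtain ⟨g, hg⟩ := exists_conj_of_constituents N χ.2 hθ₀ hθ
      refine ⟨(g⁻¹ : X), Subtype.ext (Subtype.ext ?_)⟩
      show conjC N _ θ₀ = (θ : N → ℂ)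
      rw [← hg, conjC_eq_conjC_iff]
      have h1 := QuotientGroup.eq.mp (QuotientGroup.out_eq' ((g⁻¹ : X) : X ⧸ T))
      exact h1
  have hY : ¬ p ∣ Nat.card Y := fun hd => hidx (by
    rw [← Nat.card_congr (Equiv.ofBijective f hf), ← Subgroup.index_eq_card] at hd
    exact hd.trans (Subgroup.index_dvd_of_le hNT))
  obtain ⟨⟨θ, hθ⟩, hfix⟩ := hS.nonempty_fixed_point_of_prime_not_dvd_card Y hY
  refine ⟨θ, hθ, (invOn_iff hNa _).2 fun s n => ?_⟩
  have h1 := congrFun (congrArg (fun y : Y => (y.1 : N → ℂ)) (hfix s⁻¹)) n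
  have h2 : (θ : N → ℂ) (α s⁻¹⁻¹ n) = (θ : N → ℂ) n := h1
  rwa [inv_inv] at h2

/-- Two invariant conjugate functions are conjugate by an element fixed modulo `N`. -/
theorem exists_fixed_conj (hS : IsPGroup p S) (hidx : ¬ p ∣ N.index)
    (hNa : ∀ s, ∀ x ∈ N, act s x ∈ N) {θ θ' : N → ℂ} (hθc : Cfsg.IsClassFunction N θ)
    (hθ : InvOn act N θ) (hθ' : InvOn act N θ') {g : X} (hg : conjC N g θ = θ') :
    ∃ c : X, (∀ s, act s c * c⁻¹ ∈ N) ∧ conjC N c θ = θ' := by
  have hga : ∀ s, act s g * g⁻¹ ∈ inertia N θ := by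
    intro s
    rw [← conjC_eq_conjC_iff]
    funext n
    have h := conjC_act N hθ hNa s g ⟨act s⁻¹ n, hNa s⁻¹ n n.2⟩
    have e : (⟨act s (act s⁻¹ (n : X)), hNa s _ (hNa s⁻¹ n n.2)⟩ : N) = n := Subtype.ext (by simp)
    rw [e, hg] at h
    rw [h, hg]
    exact hθ' s⁻¹ n _ rfl
  obtain ⟨t, ht, hfix⟩ := exists_fixed_in_coset N hS hidx hNa (inertia N θ)
    (fun s x hx => act_mem_inertia N hθ hNa s hx) g hga
  refine ⟨t * g, hfix, ?_⟩
  rw [conjC_mul, (mem_inertia N).mp ht, hg]

/-- The fixed cosets of an invariant overgroup of `N` are those of the fixed points modulo `N`. -/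
theorem index_modEq (hS : IsPGroup p S) (hidx : ¬ p ∣ N.index)
    (hNa : ∀ s, ∀ x ∈ N, act s x ∈ N) {T : Subgroup X} (hNT : N ≤ T)
    (hTa : ∀ s, ∀ x ∈ T, act s x ∈ T) (C : Subgroup X)
    (hC : ∀ x, x ∈ C ↔ ∀ s, act s x * x⁻¹ ∈ N) :
    T.index ≡ (T.subgroupOf C).index [MOD p] := by
  letI : MulAction S (X ⧸ T) :=
    { smul := fun s => Quotient.map' (act s) fun a b h => by
        rw [QuotientGroup.leftRel_apply] at h ⊢
        rw [← map_inv, ← map_mul]
        exact hTa s _ h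
      one_smul := fun q => by
        induction q using Quotient.inductionOn' with
        | h x => show ((act 1 x : X) : X ⧸ T) = x; simp
      mul_smul := fun a b q => by
        induction q using Quotient.inductionOn' with
        | h x => show ((act (a * b) x : X) : X ⧸ T) = ((act a (act b x) : X) : X ⧸ T); simp }
  have hsm : ∀ (s : S) (x : X), s • (x : X ⧸ T) = ((act s x : X) : X ⧸ T) := fun _ _ => rfl
  have hfixC : ∀ c ∈ C, ∀ s, (act s c)⁻¹ * c ∈ N := by
    intro c hc s
    have h := hN.conj_mem _ (N.inv_mem ((hC c).1 hc s)) c⁻¹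
    simpa [mul_assoc] using h
  let g : C ⧸ T.subgroupOf C → MulAction.fixedPoints S (X ⧸ T) :=
    Quotient.lift (fun c : C => (⟨((c : X) : X ⧸ T), fun s => by
        rw [hsm, QuotientGroup.eq]
        exact hNT (hfixC c c.2 s)⟩ : MulAction.fixedPoints S (X ⧸ T))) fun a b h => Subtype.ext (by
          change QuotientGroup.leftRel _ a b at h
          rw [QuotientGroup.leftRel_apply, Subgroup.mem_subgroupOf] at h
          exact QuotientGroup.eq.mpr h)
  have hg : Function.Bijective g := by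
    constructor
    · intro q r
      induction q using QuotientGroup.induction_on with
      | _ a =>
        induction r using QuotientGroup.induction_on with
        | _ b =>
          intro h
          have h1 : ((a : X) : X ⧸ T) = ((b : X) : X ⧸ T) := congrArg Subtype.val h
          rw [QuotientGroup.eq] at h1
          exact QuotientGroup.eq.mpr (Subgroup.mem_subgroupOf.mpr h1)
    · rintro ⟨q, hq⟩
      induction q using QuotientGroup.induction_on with
      | _ x =>
        have hx : ∀ s, act s x⁻¹ * x⁻¹⁻¹ ∈ T := fun s => by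
          have h := hq s
          rw [hsm, QuotientGroup.eq, ← map_inv] at h
          rwa [inv_inv]
        obtain ⟨t, ht, hfix⟩ := exists_fixed_in_coset N hS hidx hNa T hTa x⁻¹ hx
        refine ⟨((⟨(t * x⁻¹)⁻¹, C.inv_mem ((hC _).2 hfix)⟩ : C) : C ⧸ T.subgroupOf C),
          Subtype.ext ?_⟩
        show (((t * x⁻¹)⁻¹ : X) : X ⧸ T) = (x : X ⧸ T)
        rw [QuotientGroup.eq]
        simpa [mul_assoc] using ht
  have h := hS.card_modEq_card_fixedPoints (X ⧸ T)
  rw [← Nat.card_congr (Equiv.ofBijective g hg)] at h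
  exact h

end Fixed

/-! ## Clifford correspondence with the complementary part -/

section Correspondence

variable {X : Type u} [Group X] [Fintype X] (N : Subgroup X) [hN : N.Normal] [Fintype N]
  (θ : Cfsg.IrrCharacter N) (T : Subgroup X) [Fintype T] (hNT : N ≤ T)

/-- Characters of the inertia group over `θ` induce to irreducible characters, and the rest of the
restriction does not meet `θ`. -/
theorem correspondence (hT : T = inertia N (θ : N → ℂ)) (ψ : Cfsg.IrrCharacter T)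
    (hψ : Cfsg.classInner ((ψ : T → ℂ) ∘ Subgroup.inclusion hNT) θ ≠ 0) :
    ∃ χ : Cfsg.IrrCharacter X, Cfsg.indFun T (ψ : T → ℂ) = χ ∧
      Cfsg.classInner (fun n : N => (χ : X → ℂ) n) θ ≠ 0 ∧
      ∃ r : T → ℂ, Cfsg.IsCharacter T r ∧ (fun t : T => (χ : X → ℂ) t) = (ψ : T → ℂ) + r ∧
        Cfsg.classInner (r ∘ Subgroup.inclusion hNT) θ = 0 := by
  let ι : N →* T := Subgroup.inclusion hNT
  have hind := Lib.Induced.Character.isCharacter_indFun T (isCharacter_irr ψ)
  obtain ⟨χ, hχ⟩ := exists_constituent hind (fun h => by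
    have h1 := congrFun h 1
    rw [indFun_one, Pi.zero_apply, mul_eq_zero] at h1
    rcases h1 with h1 | h1
    · exact Subgroup.index_ne_zero_of_finite (by exact_mod_cast h1)
    · exact apply_one_ne_zero ψ h1)
  have hψχ : Cfsg.classInner (fun t : T => (χ : X → ℂ) t) (ψ : T → ℂ) ≠ 0 := by
    rw [frobenius_reciprocity T _ (isClassFunction_irr χ)] at hχ
    exact classInner_ne_zero_symm hχ
  have hχc : Cfsg.IsCharacter T (fun t : T => (χ : X → ℂ) t) :=
    isCharacter_comp T.subtype (isCharacter_irr χ)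
  have hover : Cfsg.classInner (fun n : N => (χ : X → ℂ) n) θ ≠ 0 := by
    have e : (fun n : N => (χ : X → ℂ) n) = (fun t : T => (χ : X → ℂ) t) ∘ ι := rfl
    rw [e]
    exact classInner_comp_ne_zero ι hχc hψχ hψ
  obtain ⟨ψ₁, hψ₁, hind₁, hres₁, hcon₁⟩ := exists_correspondent N χ.2 θ hover T hT hNT
  obtain ⟨m, r, hr, hm, -, hdec⟩ := exists_eq_nsmul_add hχc ⟨ψ₁, hψ₁⟩
  obtain ⟨e, he⟩ := exists_classInner_nat
    (isCharacter_comp N.subtype (isCharacter_irr χ)) (isCharacter_irr θ)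
  have he' : Cfsg.classInner (fun n : N => (χ : X → ℂ) n) θ = (e : ℂ) := he
  obtain ⟨j, hj⟩ := exists_classInner_nat (isCharacter_comp ι hr) (isCharacter_irr θ)
  have hψ₁θ : Cfsg.classInner (ψ₁ ∘ ι) θ = (e : ℂ) := by
    have e1 : ψ₁ ∘ ι = (e : ℂ) • (θ : N → ℂ) := by rw [← he']; exact hres₁
    rw [e1, classInner_smul_left, classInner_self_irr, mul_one]
  have hsum : (fun n : N => (χ : X → ℂ) n) = m • (ψ₁ ∘ ι) + r ∘ ι := by
    funext n
    exact congrFun hdec (ι n)
  rw [hsum, classInner_add_left, classInner_nsmul_left, hψ₁θ, hj] at he'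
  have he0 : e ≠ 0 := fun h => hover (by
    show Cfsg.classInner ((χ : X → ℂ) ∘ N.subtype) _ = 0
    rw [he, h, Nat.cast_zero])
  have hm0 : m ≠ 0 := fun h => hcon₁ (by
    show Cfsg.classInner _ ((⟨ψ₁, hψ₁⟩ : Cfsg.IrrCharacter T) : T → ℂ) = 0
    rw [hm, h, Nat.cast_zero])
  have hme : m * e + j = e := by exact_mod_cast he'
  have hm1 : m = 1 := by nlinarith [Nat.pos_of_ne_zero hm0, Nat.pos_of_ne_zero he0]
  have hj0 : j = 0 := by subst hm1; omega
  have hrθ : Cfsg.classInner (r ∘ ι) θ = 0 := by rw [hj, hj0, Nat.cast_zero]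
  have hψeq : (ψ : T → ℂ) = ψ₁ := by
    by_contra hne
    have hne' : (⟨ψ₁, hψ₁⟩ : Cfsg.IrrCharacter T) ≠ ψ := fun h => hne (congrArg Subtype.val h).symm
    rw [hdec, classInner_add_left, classInner_nsmul_left, classInner_irr_of_ne hne', mul_zero,
      zero_add] at hψχ
    exact classInner_comp_ne_zero ι hr hψχ hψ hrθ
  refine ⟨χ, by rw [hψeq]; exact hind₁, hover, r, hr, ?_, hrθ⟩
  rw [hdec, hm1, one_smul, hψeq]

/-- Every character over `θ` is induced from the inertia group. -/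
theorem exists_over (hT : T = inertia N (θ : N → ℂ)) {χ : Cfsg.IrrCharacter X}
    (hχ : Cfsg.classInner (fun n : N => (χ : X → ℂ) n) θ ≠ 0) :
    ∃ ψ : Cfsg.IrrCharacter T, Cfsg.classInner ((ψ : T → ℂ) ∘ Subgroup.inclusion hNT) θ ≠ 0 ∧
      Cfsg.indFun T (ψ : T → ℂ) = χ := by
  obtain ⟨ψ₁, hψ₁, hind₁, hres₁, -⟩ := exists_correspondent N χ.2 θ hχ T hT hNT
  refine ⟨⟨ψ₁, hψ₁⟩, ?_, hind₁⟩
  have e1 : ψ₁ ∘ Subgroup.inclusion hNT =
      Cfsg.classInner (fun n : N => (χ : X → ℂ) n) θ • (θ : N → ℂ) := hres₁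
  show Cfsg.classInner (ψ₁ ∘ Subgroup.inclusion hNT) θ ≠ 0
  rw [e1, classInner_smul_left, classInner_self_irr, mul_one]
  exact hχ

/-- Induction is injective on the characters over `θ`. -/
theorem indFun_injective (hT : T = inertia N (θ : N → ℂ)) {ψ ψ' : Cfsg.IrrCharacter T}
    (hψ : Cfsg.classInner ((ψ : T → ℂ) ∘ Subgroup.inclusion hNT) θ ≠ 0)
    (hψ' : Cfsg.classInner ((ψ' : T → ℂ) ∘ Subgroup.inclusion hNT) θ ≠ 0)
    (h : Cfsg.indFun T (ψ : T → ℂ) = Cfsg.indFun T (ψ' : T → ℂ)) : ψ = ψ' := by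
  obtain ⟨χ, hχ, -, r, hr, hdec, hr0⟩ := correspondence N θ T hNT hT ψ hψ
  by_contra hne
  have h1 : Cfsg.classInner (fun t : T => (χ : X → ℂ) t) (ψ' : T → ℂ) ≠ 0 := by
    intro h0
    have h2 := frobenius_reciprocity T (ψ' : T → ℂ) (isClassFunction_irr χ)
    rw [← h, hχ, classInner_self_irr] at h2
    exact classInner_ne_zero_symm (by rw [← h2]; exact one_ne_zero) h0
  rw [hdec, classInner_add_left, classInner_irr_of_ne hne, zero_add] at h1
  exact classInner_comp_ne_zero _ hr h1 hψ' hr0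

end Correspondence

/-! ## Characters times an extension -/

section Gallagher

variable {X : Type u} [Group X] {Y : Type v} [Group Y]

/-- Inflate along `π` and multiply by `χ`. -/
def twist (π : X →* Y) (χ : X → ℂ) (β : Y → ℂ) : X → ℂ := fun x => β (π x) * χ x

variable [Fintype X] [Fintype Y]

/-- Inflation preserves inner products. -/
theorem classInner_comp_surjective {π : X →* Y} (hπ : Function.Surjective π) (φ ψ : Y → ℂ) :
    Cfsg.classInner (φ ∘ π) (ψ ∘ π) = Cfsg.classInner φ ψ := by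
  classical
  let F : Y → ℂ := fun y => φ y * conj (ψ y)
  have hsum : ∑ x : X, F (π x) = (Nat.card π.ker : ℂ) * ∑ y : Y, F y := by
    rw [← Finset.sum_fiberwise (Finset.univ : Finset X) π (fun x => F (π x)), Finset.mul_sum]
    refine Finset.sum_congr rfl fun y _ => ?_
    rw [Finset.sum_congr rfl fun x hx => by rw [(Finset.mem_filter.mp hx).2], Finset.sum_const,
      nsmul_eq_mul]
    congr 2
    obtain ⟨x₀, hx₀⟩ := hπ y
    rw [← Nat.card_eq_finsetCard]
    refine Nat.card_congr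
      { toFun := fun x => ⟨x₀⁻¹ * x.1, by
          simp [MonoidHom.mem_ker, hx₀, (Finset.mem_filter.mp x.2).2]⟩
        invFun := fun k => ⟨x₀ * k.1, by
          simp [hx₀, MonoidHom.mem_ker.mp k.2]⟩
        left_inv := fun x => Subtype.ext (mul_inv_cancel_left _ _)
        right_inv := fun k => Subtype.ext (inv_mul_cancel_left _ _) }
  have hcard : (Nat.card X : ℂ) = (Nat.card π.ker : ℂ) * Nat.card Y := by
    rw [← Nat.cast_mul, ← Nat.card_congr (QuotientGroup.quotientKerEquivOfSurjective π hπ).toEquiv,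
      mul_comm, ← Subgroup.card_eq_card_quotient_mul_card_subgroup]
  simp only [Cfsg.classInner, Function.comp_apply]
  rw [hsum, hcard]
  have h0 : (Nat.card π.ker : ℂ) ≠ 0 := Nat.cast_ne_zero.mpr Nat.card_pos.ne'
  rw [mul_inv, mul_assoc, mul_left_comm _ (Nat.card π.ker : ℂ), ← mul_assoc, ← mul_assoc,
    inv_mul_cancel₀ h0, one_mul]

variable (N : Subgroup X) [hN : N.Normal] [Fintype N] {π : X →* Y}
  (hπ : Function.Surjective π) (hker : π.ker = N) {θ : Cfsg.IrrCharacter N}
  {χ : Cfsg.IrrCharacter X} (hχ : ∀ n : N, (χ : X → ℂ) n = (θ : N → ℂ) n)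

include hker hχ in
theorem twist_restrict (β : Cfsg.IrrCharacter Y) (n : N) :
    twist π (χ : X → ℂ) (β : Y → ℂ) n = (β : Y → ℂ) 1 * (θ : N → ℂ) n := by
  have h : π n = 1 := MonoidHom.mem_ker.mp (hker ▸ n.2)
  rw [twist, h, hχ]

include hπ hker hχ in
theorem gallagher_quot :
    (∀ β : Cfsg.IrrCharacter Y, Cfsg.IsIrrCharacter X (twist π (χ : X → ℂ) (β : Y → ℂ))) ∧
    (∀ β γ : Cfsg.IrrCharacter Y,
      twist π (χ : X → ℂ) (β : Y → ℂ) = twist π (χ : X → ℂ) (γ : Y → ℂ) → β = γ) ∧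
    (∀ ψ : Cfsg.IrrCharacter X, Cfsg.classInner (fun n : N => (ψ : X → ℂ) n) θ ≠ 0 →
      ∃ β : Cfsg.IrrCharacter Y, (ψ : X → ℂ) = twist π (χ : X → ℂ) (β : Y → ℂ)) := by
  have hinv : ∀ g, conjC N g θ = (θ : N → ℂ) := fun g => by
    have h1 := conjC_restrict N (isClassFunction_irr χ) g
    have e : (fun n : N => (χ : X → ℂ) n) = (θ : N → ℂ) := funext hχ
    rwa [e] at h1
  have hprod : Cfsg.IsIrrCharacter N ((fun _ => 1 : N → ℂ) * (θ : N → ℂ)) := by
    rw [show ((fun _ => 1 : N → ℂ) * (θ : N → ℂ)) = θ from one_mul _]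
    exact θ.2
  obtain ⟨hA, hB, hC⟩ := Cfsg.Agent.Lib.Clifford.Gallagher.gallagher N (fun _ => 1) (θ : N → ℂ)
    (oneChar N).2 (fun g => rfl) hinv hprod χ.2 hχ
  let lift : Cfsg.IrrCharacter Y → Cfsg.IrrCharacter X := fun β =>
    ⟨(β : Y → ℂ) ∘ π, isIrrCharacter_comp π hπ β.2⟩
  have hlift : ∀ β : Cfsg.IrrCharacter Y,
      Cfsg.classInner (Cfsg.indFun N (fun _ => (1 : ℂ))) (lift β) ≠ 0 := by
    intro β
    rw [frobenius_reciprocity N _ (isClassFunction_irr (lift β))]
    have e : (fun n : N => ((lift β : Cfsg.IrrCharacter X) : X → ℂ) n) =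
        (β : Y → ℂ) 1 • ((oneChar N : Cfsg.IrrCharacter N) : N → ℂ) := by
      funext n
      show (β : Y → ℂ) (π n) = (β : Y → ℂ) 1 * _
      rw [MonoidHom.mem_ker.mp (hker ▸ n.2), oneChar_apply, mul_one]
    rw [e, show (fun _ => (1 : ℂ)) = ((oneChar N : Cfsg.IrrCharacter N) : N → ℂ) from rfl,
      classInner_smul_right, classInner_self_irr, mul_one]
    exact fun h => apply_one_ne_zero β ((map_eq_zero (starRingEnd ℂ)).mp h)
  refine ⟨fun β => (hA (lift β) (hlift β)).1, fun β γ h => ?_, fun ψ hψ => ?_⟩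
  · have h1 := hB (lift β) (lift γ) (hlift β) (hlift γ) h
    refine Subtype.ext (hπ.injective_comp_right ?_)
    exact congrArg Subtype.val h1
  · have h1 : Cfsg.classInner (Cfsg.indFun N ((fun _ => 1 : N → ℂ) * (θ : N → ℂ))) (ψ : X → ℂ)
        ≠ 0 := by
      rw [show ((fun _ => 1 : N → ℂ) * (θ : N → ℂ)) = θ from one_mul _,
        frobenius_reciprocity N _ (isClassFunction_irr ψ)]
      exact classInner_ne_zero_symm hψ
    obtain ⟨b, hb, hψb⟩ := hC ψ h1
    have hbk : ∀ x ∈ π.ker, (b : X → ℂ) x = (b : X → ℂ) 1 := fun x hx => by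
      have := Cfsg.Agent.Lib.Clifford.Gallagher.apply_mul_of_over_one N b hb
        ⟨x, hker ▸ hx⟩ 1
      simpa using this
    obtain ⟨φ, -, hφb, hφ⟩ := Cfsg.Agent.Lib.Characters.Kernel.exists_descend π.ker
      (isCharacter_irr b) hbk
    let e := QuotientGroup.quotientKerEquivOfSurjective π hπ
    refine ⟨⟨φ ∘ e.symm.toMonoidHom,
      isIrrCharacter_comp _ e.symm.surjective (hφ b.2)⟩, ?_⟩
    rw [hψb]
    funext x
    show (b : X → ℂ) x * _ = φ (e.symm (π x)) * _
    rw [show e.symm (π x) = QuotientGroup.mk' π.ker x from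
      e.injective (by rw [e.apply_symm_apply]; rfl), ← hφb]
    rfl

end Gallagher

end Cfsg.Agent.Lib.RelGlauberman
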